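import Mathlib

/-!
A block-size criterion for the maximality of a point stabiliser, and a homomorphism given by a subgroup of
a direct product.
-/

set_option autoImplicit false

namespace Cfsg.Agent.H899.BlockCrit

open MulAction

/-- the graph of a map on generators that extends to a homomorphism because the graph is small -/
theorem exists_hom {G K : Type*} [Group G] [Group K] {n : ℕ} (x : Fin n → G) (y : Fin n → K)
    (hx : Subgroup.closure (Set.range x) = ⊤) (N : ℕ) (hN : N ≤ Nat.card G)
    (hfin : Finite (Subgroup.closure (Set.range fun i => (x i, y i))))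
    (hcard : Nat.card (Subgroup.closure (Set.range fun i => (x i, y i))) ≤ N) :
    Finite G ∧ Nat.card G = N ∧ ∃ φ : G →* K, ∀ i, φ (x i) = y i := by
  set D := Subgroup.closure (Set.range fun i => (x i, y i)) with hD
  let f : D →* G := (MonoidHom.fst G K).comp D.subtype
  have hsurj : Function.Surjective f := by
    rw [← MonoidHom.range_eq_top]
    have h1 : f.range = D.map (MonoidHom.fst G K) := by
      rw [MonoidHom.range_comp, Subgroup.range_subtype]
    rw [h1, hD, MonoidHom.map_closure, ← Set.range_comp]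
    exact hx
  have hG : Finite G := Finite.of_surjective f hsurj
  have h2 : Nat.card G ≤ Nat.card D := Nat.card_le_card_of_surjective f hsurj
  have h3 : Nat.card G = N := le_antisymm (h2.trans hcard) hN
  have hbij : Function.Bijective f := by
    rw [Nat.bijective_iff_surjective_and_card]
    exact ⟨hsurj, le_antisymm (hcard.trans hN) h2⟩
  let e : D ≃* G := MulEquiv.ofBijective f hbij
  refine ⟨hG, h3, ((MonoidHom.snd G K).comp D.subtype).comp e.symm.toMonoidHom, fun i => ?_⟩
  have hmem : (x i, y i) ∈ D := Subgroup.subset_closure ⟨i, rfl⟩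
  have h4 : e ⟨(x i, y i), hmem⟩ = x i := rfl
  have h5 : e.symm (x i) = ⟨(x i, y i), hmem⟩ := (MulEquiv.symm_apply_eq e).2 h4.symm
  change (MonoidHom.snd G K) ((e.symm (x i) : D) : G × K) = y i
  rw [h5]
  rfl

section

variable {G Ω : Type*} [Group G] [Finite G] [MulAction G Ω]

omit [Finite G] in
/-- orbit counting inside a subgroup -/
theorem ncard_orbit_mul (H : Subgroup G) (β : Ω) :
    (orbit H β).ncard * Nat.card ↥(H ⊓ stabilizer G β) = Nat.card H := by
  have h1 : Nat.card ↥(H ⊓ stabilizer G β) = Nat.card (stabilizer H β) := by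
    have : stabilizer H β = (stabilizer G β).subgroupOf H := by
      ext k
      rfl
    rw [this, ← Subgroup.inf_subgroupOf_left]
    exact Nat.card_congr
      (Subgroup.subgroupOfEquivOfLe (inf_le_left : H ⊓ stabilizer G β ≤ H)).symm.toEquiv
  rw [h1, ← Nat.card_coe_set_eq]
  have := Nat.card_congr (MulAction.orbitProdStabilizerEquivGroup H β)
  rw [Nat.card_prod] at this
  exact this

/-- Criterion: if no set containing `β`, inside the `H`-orbit of `β`, invariant under `H_β`, has a size
properly dividing the size of the orbit, except `1`, then the stabilisers in `H` of the points of the orbit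
are maximal or equal to `H`. -/
theorem eq_or_eq (H : Subgroup G) (β : Ω)
    (hcrit : ∀ B : Set Ω, β ∈ B → B ⊆ orbit H β → (∀ k ∈ H, k • β = β → ∀ b ∈ B, k • b ∈ B) →
      B.ncard ∣ (orbit H β).ncard → B.ncard = 1 ∨ B.ncard = (orbit H β).ncard)
    (β' : Ω) (hβ' : β' ∈ orbit H β) (M : Subgroup G) (h1 : H ⊓ stabilizer G β' ≤ M) (h2 : M ≤ H) :
    M = H ⊓ stabilizer G β' ∨ M = H := by
  obtain ⟨h, hh⟩ := hβ'
  have hh : (h : G) • β = β' := hh
  have hhinv : (h : G)⁻¹ • β' = β := by rw [← hh, inv_smul_smul]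
  set B : Set Ω := (fun b => (h : G)⁻¹ • b) '' orbit M β' with hB
  have hBcard : B.ncard = (orbit M β').ncard :=
    Set.ncard_image_of_injective _ (MulAction.injective _)
  have hinf : M ⊓ stabilizer G β' = H ⊓ stabilizer G β' :=
    le_antisymm (inf_le_inf_right _ h2) (le_inf h1 inf_le_right)
  have e1 := ncard_orbit_mul M β'
  have e2 := ncard_orbit_mul H β'
  rw [hinf] at e1
  have horb : orbit H β' = orbit H β := MulAction.orbit_eq_iff.2 ⟨h, hh⟩
  rw [horb] at e2
  have hpos : 0 < Nat.card ↥(H ⊓ stabilizer G β') := Nat.card_pos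
  have hdvd : B.ncard ∣ (orbit H β).ncard := by
    rw [hBcard]
    have h3 : Nat.card M ∣ Nat.card H := Subgroup.card_dvd_of_le h2
    rw [← e1, ← e2] at h3
    exact Nat.dvd_of_mul_dvd_mul_right hpos h3
  have hβB : β ∈ B := ⟨β', mem_orbit_self β', hhinv⟩
  have hsub : B ⊆ orbit H β := by
    rintro _ ⟨_, ⟨m, rfl⟩, rfl⟩
    refine ⟨h⁻¹ * ⟨m, h2 m.2⟩ * h, ?_⟩
    change ((h : G)⁻¹ * (m : G) * (h : G)) • β = (h : G)⁻¹ • ((m : G) • β')
    rw [mul_smul, mul_smul, hh]
  have hclosed : ∀ k ∈ H, k • β = β → ∀ b ∈ B, k • b ∈ B := by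
    rintro k hk hkβ _ ⟨_, ⟨m, rfl⟩, rfl⟩
    have hkm : (h : G) * k * (h : G)⁻¹ ∈ M := by
      apply h1
      refine Subgroup.mem_inf.2 ⟨H.mul_mem (H.mul_mem h.2 hk) (H.inv_mem h.2), ?_⟩
      rw [mem_stabilizer_iff, mul_smul, mul_smul, hhinv, hkβ, hh]
    refine ⟨((h : G) * k * (h : G)⁻¹ * (m : G)) • β', ⟨⟨_, M.mul_mem hkm m.2⟩, rfl⟩, ?_⟩
    change (h : G)⁻¹ • (((h : G) * k * (h : G)⁻¹ * (m : G)) • β') = k • ((h : G)⁻¹ • ((m : G) • β'))
    simp only [← mul_smul]
    congr 1
    group
  rcases hcrit B hβB hsub hclosed hdvd with h3 | h3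
  · left
    rw [hBcard] at h3
    rw [h3, one_mul] at e1
    exact (Subgroup.eq_of_le_of_card_ge h1 (by rw [e1])).symm
  · right
    rw [hBcard] at h3
    rw [h3, e2] at e1
    exact Subgroup.eq_of_le_of_card_ge h2 (by rw [e1])

end

/-- from the two-alternative form to the coatom form -/
theorem isCoatom_subgroupOf {G : Type*} [Group G] (H K : Subgroup G) (hKH : K ≤ H) (hne : K ≠ H)
    (h : ∀ M : Subgroup G, K ≤ M → M ≤ H → M = K ∨ M = H) : IsCoatom (K.subgroupOf H) := by
  constructor
  · intro htop
    apply hne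
    apply le_antisymm hKH
    exact Subgroup.subgroupOf_eq_top.1 htop
  · intro L hL
    have hKM : K ≤ L.map H.subtype := by
      have := Subgroup.map_mono (f := H.subtype) hL.le
      rwa [Subgroup.subgroupOf_map_subtype, inf_eq_left.2 hKH] at this
    rcases h (L.map H.subtype) hKM (Subgroup.map_subtype_le L) with h1 | h1
    · exfalso
      apply hL.ne
      rw [← h1, Subgroup.subgroupOf, Subgroup.comap_map_eq_self_of_injective H.subtype_injective]
    · have h2 := congrArg (Subgroup.comap H.subtype) h1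
      rw [Subgroup.comap_map_eq_self_of_injective H.subtype_injective] at h2
      rw [h2]
      exact Subgroup.subgroupOf_self H

end Cfsg.Agent.H899.BlockCrit
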