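import Cfsg.Agent.H899.Perm416
import Cfsg.Agent.J2.HundredGens
import Cfsg.Agent.S1619

/-!
Words in the first five permutations of degree 416 which satisfy the relations of `J2Type.Pres`; the
subgroup generated by the five permutations has order 604800.
-/

set_option autoImplicit false

namespace Cfsg.Agent.H899.J2Words

open Cfsg.Agent.H899.Perm416 Cfsg.Agent.J2Type.Pres Cfsg.Agent.J2Type.PresIso

def wV : List (Fin 6) := [3]
def wX : List (Fin 6) := [0, 1, 0, 1, 2, 4, 3, 2, 1, 0, 3, 2, 1, 0, 1, 3, 2, 1, 3, 2, 4]
def wA : List (Fin 6) := [3, 4, 3]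
def wZ : List (Fin 6) := [1]
def wY : List (Fin 6) := [0, 4, 3, 2, 1, 0, 3, 4]
def wL : List (Fin 6) := [4, 3, 2, 3, 4]

/-- Words satisfy the relations. -/
theorem rels_perm : Rels (E wV) (E wX) (E wA) (E wZ) (E wY) (E wL) where
  v2 := by rw [← E_append, ← E_nil]; exact E_eq (by decide +kernel)
  x3 := by simp only [pow_succ, pow_zero, one_mul]; rw [← E_append, ← E_append, ← E_nil]; exact E_eq (by decide +kernel)
  vx := by simp only [pow_succ, pow_zero, one_mul]; simp only [← E_append]; rw [← E_nil]; exact E_eq (by decide +kernel)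
  a2 := by simp only [← E_append]; rw [← E_nil]; exact E_eq (by decide +kernel)
  xa := by simp only [pow_succ, pow_zero, one_mul]; simp only [← E_append]; rw [← E_nil]; exact E_eq (by decide +kernel)
  va := by simp only [pow_succ, pow_zero, one_mul]; simp only [← E_append]; rw [← E_nil]; exact E_eq (by decide +kernel)
  z2 := by simp only [← E_append]; rw [← E_nil]; exact E_eq (by decide +kernel)
  y3 := by simp only [pow_succ, pow_zero, one_mul]; simp only [← E_append]; rw [← E_nil]; exact E_eq (by decide +kernel)
  zy := by simp only [pow_succ, pow_zero, one_mul]; simp only [← E_append]; rw [← E_nil]; exact E_eq (by decide +kernel)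
  l2 := by simp only [← E_append]; rw [← E_nil]; exact E_eq (by decide +kernel)
  yl := by simp only [pow_succ, pow_zero, one_mul]; simp only [← E_append]; rw [← E_nil]; exact E_eq (by decide +kernel)
  zl := by simp only [pow_succ, pow_zero, one_mul]; simp only [← E_append]; rw [← E_nil]; exact E_eq (by decide +kernel)
  vz := by simp only [← E_append]; exact E_eq (by decide +kernel)
  vy := by simp only [← E_append]; exact E_eq (by decide +kernel)
  vl := by simp only [← E_append]; exact E_eq (by decide +kernel)
  xz := by simp only [← E_append]; exact E_eq (by decide +kernel)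
  xy := by simp only [← E_append]; exact E_eq (by decide +kernel)
  xl := by simp only [← E_append]; exact E_eq (by decide +kernel)
  az := by simp only [← E_append]; exact E_eq (by decide +kernel)
  aly := by simp only [← E_append]; exact E_eq (by decide +kernel)
  eq4 := by
    simp only [pow_succ, pow_zero, one_mul, E_inv]; simp only [← E_append]
    exact E_eq (by decide +kernel)
  n1 := by
    simp only [E_inv]; simp only [← E_append]
    exact E_eq (by decide +kernel)

theorem z_ne : E wZ ≠ 1 := by
  intro h
  have h1 := congrArg (fun f : Equiv.Perm (Fin 416) => ((f 0 : Fin 416) : ℕ)) h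
  have h2 : ∃ i : Fin 416, wk wZ i ≠ i := ⟨52, by decide +kernel⟩
  obtain ⟨i, hi⟩ := h2
  apply hi
  rw [← E_apply, h]
  rfl

/-- the presented group is simple of order 604800 -/
theorem P_facts : IsSimpleGroup Cfsg.Agent.J2Type.PresIso.P ∧
    Nat.card Cfsg.Agent.J2Type.PresIso.P = 604800 := by
  have hs := Cfsg.Agent.SporadicA.J2Hundred.simple
  have hJ := Cfsg.Agent.SporadicA.J2Hundred.card_G
  have hgen := Cfsg.Agent.J2.HundredGens.HG_top
  unfold Cfsg.Agent.J2.HundredGens.HG at hgen
  obtain ⟨hfin, hcard⟩ := card_P
  have hsurj := hom_surjective Cfsg.Agent.J2.HundredGens.rels_G hgen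
  have hcJ : Nat.card Cfsg.Agent.J2Type.PresIso.P = 604800 := by
    apply le_antisymm hcard
    rw [← hJ]
    exact Nat.card_le_card_of_surjective _ hsurj
  have hfG : Finite Cfsg.Agent.SporadicA.J2Hundred.G :=
    Nat.finite_of_card_ne_zero (by rw [hJ]; norm_num)
  have hbij : Function.Bijective (hom Cfsg.Agent.J2.HundredGens.rels_G) := by
    rw [Nat.bijective_iff_surjective_and_card]
    exact ⟨hsurj, by rw [hcJ, hJ]⟩
  let eJ := MulEquiv.ofBijective (hom Cfsg.Agent.J2.HundredGens.rels_G) hbij
  exact ⟨eJ.isSimpleGroup, hcJ⟩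

/-- the subgroup generated by the first five permutations -/
def Q : Subgroup (Equiv.Perm (Fin 416)) := Subgroup.closure (P '' {i | i < 5})

theorem E_mem_Q (w : List (Fin 6)) (hw : ∀ i ∈ w, i < 5) : E w ∈ Q := by
  refine Subgroup.list_prod_mem _ (fun g hg => ?_)
  obtain ⟨i, hi, rfl⟩ := List.mem_map.1 hg
  exact Subgroup.subset_closure ⟨i, hw i hi, rfl⟩

theorem range_hom : (hom rels_perm).range = Q := by
  have h1 : (hom rels_perm).range = Subgroup.closure {E wV, E wX, E wA, E wZ, E wY, E wL} := by
    apply le_antisymm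
    · rw [MonoidHom.range_eq_map, ← PresentedGroup.closure_range_of, MonoidHom.map_closure,
        Subgroup.closure_le]
      rintro _ ⟨_, ⟨i, rfl⟩, rfl⟩
      rw [SetLike.mem_coe, hom_of]
      apply Subgroup.subset_closure
      fin_cases i <;> simp [vals]
    · rw [Subgroup.closure_le]
      rintro g (rfl | rfl | rfl | rfl | rfl | rfl)
      · exact ⟨PresentedGroup.of 0, hom_of rels_perm 0⟩
      · exact ⟨PresentedGroup.of 1, hom_of rels_perm 1⟩
      · exact ⟨PresentedGroup.of 2, hom_of rels_perm 2⟩
      · exact ⟨PresentedGroup.of 3, hom_of rels_perm 3⟩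
      · exact ⟨PresentedGroup.of 4, hom_of rels_perm 4⟩
      · exact ⟨PresentedGroup.of 5, hom_of rels_perm 5⟩
  rw [h1]
  apply le_antisymm
  · rw [Subgroup.closure_le]
    rintro g (rfl | rfl | rfl | rfl | rfl | rfl) <;> exact E_mem_Q _ (by decide)
  · unfold Q
    rw [Subgroup.closure_le]
    set C := Subgroup.closure {E wV, E wX, E wA, E wZ, E wY, E wL} with hC
    have hV : E wV ∈ C := Subgroup.subset_closure (by simp)
    have hA : E wA ∈ C := Subgroup.subset_closure (by simp)
    have hZ : E wZ ∈ C := Subgroup.subset_closure (by simp)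
    have hY : E wY ∈ C := Subgroup.subset_closure (by simp)
    have hL : E wL ∈ C := Subgroup.subset_closure (by simp)
    have hP : ∀ i : Fin 6, P i = E [i] := fun i => by simp [E]
    rintro _ ⟨i, hi, rfl⟩
    have h0 : P 0 ∈ C := by
      have : P 0 = E wZ * E wL * E wY * E wZ * E wL * E wY * E wZ := by
        rw [hP]; simp only [← E_append]; exact E_eq (by decide +kernel)
      rw [this]
      exact C.mul_mem (C.mul_mem (C.mul_mem (C.mul_mem (C.mul_mem (C.mul_mem hZ hL) hY) hZ) hL) hY) hZ
    have h1 : P 1 ∈ C := by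
      have : P 1 = E wZ := by rw [hP]; rfl
      rw [this]; exact hZ
    have h2 : P 2 ∈ C := by
      have : P 2 = E wA * E wL * E wA := by
        rw [hP]; simp only [← E_append]; exact E_eq (by decide +kernel)
      rw [this]
      exact C.mul_mem (C.mul_mem hA hL) hA
    have h3 : P 3 ∈ C := by
      have : P 3 = E wV := by rw [hP]; rfl
      rw [this]; exact hV
    have h4 : P 4 ∈ C := by
      have : P 4 = E wV * E wA * E wV := by
        rw [hP]; simp only [← E_append]; exact E_eq (by decide +kernel)
      rw [this]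
      exact C.mul_mem (C.mul_mem hV hA) hV
    have key : ∀ i : Fin 6, i < 5 → i = 0 ∨ i = 1 ∨ i = 2 ∨ i = 3 ∨ i = 4 := by decide
    rcases key i hi with rfl | rfl | rfl | rfl | rfl
    · exact h0
    · exact h1
    · exact h2
    · exact h3
    · exact h4

theorem card_Q : Nat.card Q = 604800 := by
  obtain ⟨hs, hc⟩ := P_facts
  have hker : (hom rels_perm).ker = ⊥ := by
    rcases hs.eq_bot_or_eq_top_of_normal (hom rels_perm).ker inferInstance with h1 | h1
    · exact h1
    · exfalso
      apply z_ne
      have h2 : (PresentedGroup.of 3 : Cfsg.Agent.J2Type.PresIso.P) ∈ (hom rels_perm).ker := by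
        rw [h1]; exact Subgroup.mem_top _
      rw [MonoidHom.mem_ker, hom_of] at h2
      exact h2
  have hinj : Function.Injective (hom rels_perm) := (MonoidHom.ker_eq_bot_iff _).mp hker
  rw [← range_hom, ← hc]
  exact (Nat.card_congr (MonoidHom.ofInjective hinj).toEquiv).symm

end Cfsg.Agent.H899.J2Words
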