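import Cfsg.Agent.H899.Orb416
import Cfsg.Agent.H899.J2Words
import Cfsg.Agent.H899.BlockCrit
import Cfsg.Agent.SporRec.G24Upper

/-!
A group of order 251596800 generated by six elements satisfying the relators `R6` has a maximal subgroup
isomorphic to `J₂`, and its action on the cosets of it is extremely primitive.
-/

set_option autoImplicit false

namespace Cfsg.Agent.H899.G24Prim

open MulAction Cfsg.Agent.H899.Perm416 Cfsg.Agent.H899.Orb416 Cfsg.Agent.H899.J2Words
  Cfsg.Agent.H899.BlockCrit Cfsg.Agent.SporRec.G24Rel Cfsg.Agent.SporRec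

/-- numbers of the points of a set -/
def nums (B : Set (Fin 416)) : Set ℕ := {n | ∃ h : n < 416, (⟨n, h⟩ : Fin 416) ∈ B}

theorem mem_nums (B : Set (Fin 416)) (p : Fin 416) : (p : ℕ) ∈ nums B ↔ p ∈ B :=
  ⟨fun ⟨_, h⟩ => h, fun h => ⟨p.isLt, h⟩⟩

section

variable {G : Type*} [Group G] [MulAction G (Fin 416)] (x : Fin 6 → G)
  (hact : ∀ (i : Fin 6) (p : Fin 416), x i • p = P i p)

/-- the element of a word -/
def X (w : List (Fin 6)) : G := (w.map x).prod

include hact

theorem X_smul (w : List (Fin 6)) (p : Fin 416) : X x w • p = E w p := by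
  induction w with
  | nil => simp [X, E]
  | cons k w ih =>
    have : X x (k :: w) = x k * X x w := by simp [X]
    rw [this, mul_smul, ih, hact, E_cons, Equiv.Perm.mul_apply]

theorem X_smul_val (w : List (Fin 6)) (p : Fin 416) : ((X x w • p : Fin 416) : ℕ) = wk w p := by
  rw [X_smul x hact, E_apply]

theorem tree_iff (t : Tree) (ht : t.ok = true) (K : Subgroup G) (hK : ∀ i, X x (t.ws i) ∈ K)
    (B : Set (Fin 416)) (hB : ∀ k ∈ K, ∀ b ∈ B, k • b ∈ B) (p : Fin 416) (hp : t.L p ≠ 7) :
    p ∈ B ↔ t.rt (t.L p) ∈ nums B := by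
  rw [← mem_nums]
  refine t.mem_iff ht (nums B) (fun i q hq => ?_) p p.isLt hp
  have h1 := X_smul_val x hact (t.ws i) ⟨q, hq⟩
  have e : (⟨q, hq⟩ : Fin 416) ∈ B ↔ X x (t.ws i) • (⟨q, hq⟩ : Fin 416) ∈ B := by
    constructor
    · exact hB _ (hK i) _
    · intro h
      have := hB _ (K.inv_mem (hK i)) _ h
      rwa [inv_smul_smul] at this
  have e2 := (mem_nums B ⟨q, hq⟩).trans (e.trans (mem_nums B _).symm)
  rw [h1] at e2
  exact e2

end

/-- counting a union of label classes -/
theorem ncard_eq_sum (t : Tree) (r : ℕ) (B : Set (Fin 416)) (hr : ∀ p ∈ B, t.L p < r)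
    (h : ∀ p : Fin 416, t.L p < r → (p ∈ B ↔ t.rt (t.L p) ∈ nums B)) [DecidablePred fun n => n ∈ nums B] :
    B.ncard = ∑ k ∈ Finset.range r,
      if t.rt k ∈ nums B then (Finset.univ.filter fun p : Fin 416 => t.L p = k).card else 0 := by
  classical
  have h1 : B.ncard = (Finset.univ.filter fun p : Fin 416 => p ∈ B).card := by
    have h0 : B = ((Finset.univ.filter fun p : Fin 416 => p ∈ B : Finset (Fin 416)) : Set (Fin 416)) := by
      ext p
      rw [Finset.mem_coe, Finset.mem_filter]
      exact ⟨fun h => ⟨Finset.mem_univ _, h⟩, fun h => h.2⟩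
    exact (congrArg Set.ncard h0).trans (Set.ncard_coe_finset _)
  rw [h1, Finset.card_eq_sum_card_fiberwise (f := fun p : Fin 416 => t.L p) (t := Finset.range r)]
  · refine Finset.sum_congr rfl fun k hk => ?_
    have hk := Finset.mem_range.1 hk
    split_ifs with hm
    · refine congrArg Finset.card ?_
      ext p
      simp only [Finset.mem_filter, Finset.mem_univ, true_and]
      constructor
      · exact fun h => h.2
      · intro hp
        refine ⟨?_, hp⟩
        rw [h p (by rw [hp]; exact hk), hp]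
        exact hm
    · rw [Finset.card_eq_zero]
      ext p
      simp only [Finset.mem_filter, Finset.mem_univ, true_and, Finset.notMem_empty, iff_false, not_and]
      intro hpB hp
      apply hm
      have := (h p (by rw [hp]; exact hk)).1 hpB
      rwa [hp] at this
  · intro p hp
    have hp := (Finset.mem_filter.1 (Finset.mem_coe.1 hp)).2
    exact Finset.mem_coe.2 (Finset.mem_range.2 (hr p hp))

theorem LA_lt : ∀ p : Fin 416, tA.L p < 1 := by decide +kernel
theorem LJ_lt : ∀ p : Fin 416, tJ.L p < 3 := by decide +kernel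
theorem LJ_inv : ∀ i : Fin 6, i < 5 → ∀ p : Fin 416, tJ.L (look (tab i) p) = tJ.L p := by
  decide +kernel
theorem L1_lt : ∀ p : Fin 416, tJ.L p = 2 → tL1.L p < 3 := by decide +kernel
theorem L1_back : ∀ p : Fin 416, tL1.L p < 3 → tJ.L p = 2 := by decide +kernel
theorem L2_lt : ∀ p : Fin 416, tJ.L p = 1 → tL2.L p < 6 := by decide +kernel
theorem L2_back : ∀ p : Fin 416, tL2.L p < 6 → tJ.L p = 1 := by decide +kernel
theorem LJ_zero : ∀ p : Fin 416, tJ.L p = 0 → p = 0 := by decide +kernel


section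

variable {G : Type*} [Group G] [Finite G] [MulAction G (Fin 416)] (x : Fin 6 → G)
  (hact : ∀ (i : Fin 6) (p : Fin 416), x i • p = P i p)

omit [Finite G] in
include hact in
theorem X_mem_stab (w : List (Fin 6)) (p : Fin 416) (h : wk w p = p) : X x w ∈ stabilizer G p := by
  rw [mem_stabilizer_iff]
  apply Fin.ext
  rw [X_smul_val x hact, h]

/-- the point stabiliser -/
def J (G : Type*) [Group G] [MulAction G (Fin 416)] : Subgroup G := stabilizer G (0 : Fin 416)

omit [Finite G] in
include hact in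
theorem orbit_univ : orbit G (0 : Fin 416) = Set.univ := by
  ext p
  simp only [Set.mem_univ, iff_true]
  have h := tree_iff x hact tA okA ⊤ (fun i => Subgroup.mem_top _) (orbit G (0 : Fin 416))
    (fun k _ b hb => by
      obtain ⟨g, rfl⟩ := hb
      exact ⟨k * g, mul_smul k g _⟩)
  have hL : tA.L p = 0 := by
    have := LA_lt p; omega
  have h0 : tA.L (0 : Fin 416) = 0 := by
    have := LA_lt 0; omega
  rw [h p (by rw [hL]; norm_num), hL]
  have := (h 0 (by rw [h0]; norm_num)).1 (mem_orbit_self _)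
  rwa [h0] at this

omit [Finite G] in
include hact in
theorem card_J (hcard : Nat.card G = 251596800) : Nat.card (J G) = 604800 := by
  have h1 := ncard_orbit_mul (⊤ : Subgroup G) (0 : Fin 416)
  have h2 : orbit (⊤ : Subgroup G) (0 : Fin 416) = orbit G (0 : Fin 416) := by
    ext p
    constructor
    · rintro ⟨g, rfl⟩; exact ⟨g, rfl⟩
    · rintro ⟨g, rfl⟩; exact ⟨⟨g, Subgroup.mem_top g⟩, rfl⟩
  rw [h2, orbit_univ x hact, Set.ncard_univ, Nat.card_eq_fintype_card, Fintype.card_fin, top_inf_eq,
    Subgroup.card_top, hcard] at h1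
  change 416 * Nat.card (J G) = 251596800 at h1
  omega

open Cfsg.Agent.SporadicRecognition Cfsg.Agent.SporadicRecognition.CosetCert
  Cfsg.Agent.SporadicRecognition.CosetCertHyp Cfsg.Agent.SporadicRecognition.CosetChain
  Cfsg.Agent.SporRec.G24Upper in
include hact in
theorem J_eq (hx : ∀ w ∈ R6, (w.map x).prod = 1) (hc : Subgroup.closure (Set.range x) = ⊤)
    (hcard : Nat.card G = 251596800) : J G = Subgroup.closure (x '' {i | i < 5}) := by
  have hle : Subgroup.closure (x '' {i | i < 5}) ≤ J G := by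
    rw [Subgroup.closure_le]
    rintro _ ⟨i, hi, rfl⟩
    have h : ∀ i : Fin 6, i < 5 → wk [i] (0 : Fin 416) = (0 : Fin 416) := by decide +kernel
    have h1 := X_mem_stab x hact [i] 0 (h i hi)
    have h2 : X x [i] = x i := by simp [X]
    rw [h2] at h1
    exact h1
  have hfin : Finite (Subgroup.closure (let6 x '' {n | n < 5})) := inferInstance
  have h1 := card_step SuzBData.C (let6 x) rels [[0],[1],[2],[3],[4]]
    (Subgroup.closure (let6 x '' {n | n < 5}))
    (fun n hn => ⟨hn, sq x hx n hn⟩)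
    (fun r hr _ => rels_ev x hx r hr)
    (fun s hs _ => sub_letters (let6 x) 5 [[0],[1],[2],[3],[4]] (by decide) s hs)
    (by decide +kernel) SuzBAll.part hfin
  have e : let6 x '' {n | n < 6} = Set.range x := by
    ext y
    constructor
    · rintro ⟨n, hn, rfl⟩
      exact ⟨⟨n, hn⟩, (let6_val x ⟨n, hn⟩).symm⟩
    · rintro ⟨i, rfl⟩
      exact ⟨i.val, i.isLt, let6_val x i⟩
  have e5 : let6 x '' {n | n < 5} = x '' {i | i < 5} := by
    ext y
    constructor
    · rintro ⟨n, hn, rfl⟩
      have hn' : n < 5 := hn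
      have hn6 : n < 6 := by omega
      exact ⟨⟨n, hn6⟩, hn', (let6_val x ⟨n, hn6⟩).symm⟩
    · rintro ⟨i, hi, rfl⟩
      exact ⟨i.val, hi, let6_val x i⟩
  have h2 := h1.2
  change Nat.card (Subgroup.closure (let6 x '' {n | n < 6})) ≤ 416 * _ at h2
  rw [e, e5, hc, Subgroup.card_top, hcard] at h2
  refine (Subgroup.eq_of_le_of_card_ge hle ?_).symm
  rw [card_J x hact hcard]
  omega


include hact in
/-- the restriction of the action to the point stabiliser is faithful, with image `Q` -/
theorem J_faithful (hx : ∀ w ∈ R6, (w.map x).prod = 1) (hc : Subgroup.closure (Set.range x) = ⊤)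
    (hcard : Nat.card G = 251596800) :
    Function.Injective ((toPermHom G (Fin 416)).comp (J G).subtype) := by
  set f := (toPermHom G (Fin 416)).comp (J G).subtype with hf
  have hrange : f.range = Q := by
    rw [hf, MonoidHom.range_comp, Subgroup.range_subtype, J_eq x hact hx hc hcard,
      MonoidHom.map_closure, Set.image_image]
    unfold Q
    congr 1
    apply Set.image_congr
    intro i _
    ext1 p
    exact hact i p
  have hfin : Finite (J G) := inferInstance
  have h1 : Function.Bijective f.rangeRestrict := by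
    rw [Nat.bijective_iff_surjective_and_card]
    refine ⟨f.rangeRestrict_surjective, ?_⟩
    rw [card_J x hact hcard]
    rw [← card_Q, ← hrange]
  intro a b hab
  apply h1.1
  exact Subtype.ext hab

/-- an element of the stabiliser given by a word -/
def jw (w : List (Fin 6)) (h : X x w ∈ J G) : J G := ⟨X x w, h⟩

include hact in
theorem isoJ2 (hx : ∀ w ∈ R6, (w.map x).prod = 1) (hc : Subgroup.closure (Set.range x) = ⊤)
    (hcard : Nat.card G = 251596800) : Cfsg.Spor.IsoJ2 (J G) := by
  have hw : ∀ w ∈ [wV, wX, wA, wZ, wY, wL], wk w (0 : Fin 416) = (0 : Fin 416) := by decide +kernel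
  have mV : X x wV ∈ J G := X_mem_stab x hact wV 0 (hw _ (by simp))
  have mX : X x wX ∈ J G := X_mem_stab x hact wX 0 (hw _ (by simp))
  have mA : X x wA ∈ J G := X_mem_stab x hact wA 0 (hw _ (by simp))
  have mZ : X x wZ ∈ J G := X_mem_stab x hact wZ 0 (hw _ (by simp))
  have mY : X x wY ∈ J G := X_mem_stab x hact wY 0 (hw _ (by simp))
  have mL : X x wL ∈ J G := X_mem_stab x hact wL 0 (hw _ (by simp))
  have key : ∀ w (h : X x w ∈ J G), ((toPermHom G (Fin 416)).comp (J G).subtype) (jw x w h) = E w := by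
    intro w h
    ext1 p
    exact X_smul x hact w p
  have hinj := J_faithful x hact hx hc hcard
  have hrel : Cfsg.Agent.J2Type.Pres.Rels (jw x wV mV) (jw x wX mX) (jw x wA mA) (jw x wZ mZ)
      (jw x wY mY) (jw x wL mL) := by
    apply Cfsg.Agent.J2.HundredGens.rels_of_injective _ hinj
    rw [key, key, key, key, key, key]
    exact rels_perm
  refine Cfsg.Agent.J2.HundredGens.iso_J2 Cfsg.Agent.S1619.result.2.2.2 (card_J x hact hcard) hrel ?_
  intro h
  apply z_ne
  rw [← key wZ mZ, h, map_one]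


omit [Finite G] in
include hact in
theorem orbit_top : orbit (⊤ : Subgroup G) (0 : Fin 416) = Set.univ := by
  rw [← orbit_univ x hact]
  ext p
  constructor
  · rintro ⟨g, rfl⟩; exact ⟨g, rfl⟩
  · rintro ⟨g, rfl⟩; exact ⟨⟨g, Subgroup.mem_top g⟩, rfl⟩

omit [Finite G] in
include hact in
theorem crit_top (B : Set (Fin 416)) (h0 : (0 : Fin 416) ∈ B)
    (hcl : ∀ k ∈ (⊤ : Subgroup G), k • (0 : Fin 416) = 0 → ∀ b ∈ B, k • b ∈ B)
    (hd : B.ncard ∣ (orbit (⊤ : Subgroup G) (0 : Fin 416)).ncard) :
    B.ncard = 1 ∨ B.ncard = (orbit (⊤ : Subgroup G) (0 : Fin 416)).ncard := by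
  classical
  rw [orbit_top x hact, Set.ncard_univ, Nat.card_eq_fintype_card, Fintype.card_fin] at hd ⊢
  have hK : ∀ i, X x (tJ.ws i) ∈ J G := by
    intro i
    refine X_mem_stab x hact _ 0 ?_
    have : ∀ i < 5, wk (tJ.ws i) (0 : Fin 416) = (0 : Fin 416) := by decide +kernel
    by_cases hi : i < 5
    · exact this i hi
    · have : tJ.ws i = [] := by
        match i, hi with
        | n + 5, _ => rfl
      rw [this]; rfl
  have h1 := ncard_eq_sum tJ 3 B (fun p _ => LJ_lt p) (fun p _ => tree_iff x hact tJ okJ (J G) hK B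
    (fun k hk b hb => hcl k (Subgroup.mem_top k) hk b hb) p (by have := LJ_lt p; omega))
  simp only [Finset.sum_range_succ, Finset.sum_range_zero, zero_add, cardJ_0, cardJ_1, cardJ_2] at h1
  have hr : tJ.rt 0 ∈ nums B := (mem_nums B 0).2 h0
  rw [if_pos hr] at h1
  rw [h1] at hd ⊢
  split_ifs at hd ⊢ <;> revert hd <;> decide

include hact in
theorem coatom_J (hcard : Nat.card G = 251596800) : IsCoatom (J G) := by
  constructor
  · intro h
    have h1 := card_J x hact hcard
    rw [h, Subgroup.card_top, hcard] at h1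
    omega
  · intro M hM
    have h1 := eq_or_eq (⊤ : Subgroup G) (0 : Fin 416)
      (fun B hB _ hcl hd => crit_top x hact B hB hcl hd) 0 (mem_orbit_self _) M
      (by rw [top_inf_eq]; exact hM.le) le_top
    rcases h1 with h1 | h1
    · exfalso
      rw [top_inf_eq] at h1
      exact hM.ne h1.symm
    · exact h1

omit [Finite G] in
include hact in
theorem label_inv (hJ : J G = Subgroup.closure (x '' {i | i < 5})) (k : G) (hk : k ∈ J G)
    (p : Fin 416) : tJ.L ((k • p : Fin 416) : ℕ) = tJ.L p := by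
  rw [hJ] at hk
  induction hk using Subgroup.closure_induction generalizing p with
  | mem y hy =>
    obtain ⟨i, hi, rfl⟩ := hy
    rw [hact]
    exact LJ_inv i hi p
  | one => rw [one_smul]
  | mul a b _ _ ha hb => rw [mul_smul, ha, hb]
  | inv a _ ha =>
    have := ha (a⁻¹ • p)
    rw [smul_inv_smul] at this
    exact this.symm

include hact in
theorem orbit_J (hJ : J G = Subgroup.closure (x '' {i | i < 5})) (k : ℕ) (hk : k < 3) (r : Fin 416)
    (hr : tJ.rt k = r) (hrk : tJ.L r = k) : orbit (J G) r = {p : Fin 416 | tJ.L p = k} := by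
  have hK : ∀ i, X x (tJ.ws i) ∈ J G := by
    intro i
    refine X_mem_stab x hact _ 0 ?_
    have : ∀ i < 5, wk (tJ.ws i) (0 : Fin 416) = (0 : Fin 416) := by decide +kernel
    by_cases hi : i < 5
    · exact this i hi
    · have : tJ.ws i = [] := by
        match i, hi with
        | n + 5, _ => rfl
      rw [this]; rfl
  ext p
  constructor
  · rintro ⟨g, rfl⟩
    change tJ.L (((g : G) • r : Fin 416) : ℕ) = k
    rw [label_inv x hact hJ g g.2, hrk]
  · intro hp
    have hp : tJ.L p = k := hp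
    rw [tree_iff x hact tJ okJ (J G) hK (orbit (J G) r) (fun k hk b hb => by
      obtain ⟨g, rfl⟩ := hb
      exact ⟨⟨k, hk⟩ * g, mul_smul _ g _⟩) p (by omega), hp, hr, mem_nums]
    exact mem_orbit_self r

end

/-- size of a label class -/
theorem ncard_label (t : Tree) (k : ℕ) : {p : Fin 416 | t.L p = k}.ncard =
    (Finset.univ.filter fun p : Fin 416 => t.L p = k).card := by
  classical
  have h0 : {p : Fin 416 | t.L p = k} =
      ((Finset.univ.filter fun p : Fin 416 => t.L p = k : Finset (Fin 416)) : Set (Fin 416)) := by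
    ext p
    rw [Finset.mem_coe, Finset.mem_filter]
    exact ⟨fun h => ⟨Finset.mem_univ _, h⟩, fun h => h.2⟩
  exact (congrArg Set.ncard h0).trans (Set.ncard_coe_finset _)

section

variable {G : Type*} [Group G] [Finite G] [MulAction G (Fin 416)] (x : Fin 6 → G)
  (hact : ∀ (i : Fin 6) (p : Fin 416), x i • p = P i p)

include hact in
theorem crit_52 (hJ : J G = Subgroup.closure (x '' {i | i < 5})) (B : Set (Fin 416))
    (h0 : (52 : Fin 416) ∈ B) (hsub : B ⊆ orbit (J G) (52 : Fin 416))
    (hcl : ∀ k ∈ J G, k • (52 : Fin 416) = 52 → ∀ b ∈ B, k • b ∈ B)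
    (hd : B.ncard ∣ (orbit (J G) (52 : Fin 416)).ncard) :
    B.ncard = 1 ∨ B.ncard = (orbit (J G) (52 : Fin 416)).ncard := by
  classical
  have horb := orbit_J x hact hJ 2 (by norm_num) 52 rfl (by decide +kernel)
  rw [horb, ncard_label, cardJ_2] at hd ⊢
  rw [horb] at hsub
  have hK : ∀ i, X x (tL1.ws i) ∈ J G ⊓ stabilizer G (52 : Fin 416) := by
    intro i
    have : ∀ i < 3, wk (tL1.ws i) (0 : Fin 416) = (0 : Fin 416) ∧
      wk (tL1.ws i) (52 : Fin 416) = (52 : Fin 416) := by decide +kernel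
    by_cases hi : i < 3
    · exact Subgroup.mem_inf.2 ⟨X_mem_stab x hact _ 0 (this i hi).1, X_mem_stab x hact _ 52 (this i hi).2⟩
    · have : tL1.ws i = [] := by
        match i, hi with
        | n + 3, _ => rfl
      rw [this]
      exact Subgroup.one_mem _
  have h1 := ncard_eq_sum tL1 3 B (fun p hp => L1_lt p (hsub hp))
    (fun p hp => tree_iff x hact tL1 okL1 _ hK B
      (fun k hk b hb => hcl k (Subgroup.mem_inf.1 hk).1 (Subgroup.mem_inf.1 hk).2 b hb) p (by omega))
  simp only [Finset.sum_range_succ, Finset.sum_range_zero, zero_add, cardL1_0, cardL1_1, cardL1_2] at h1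
  have hr : tL1.rt 0 ∈ nums B := (mem_nums B 52).2 h0
  rw [if_pos hr] at h1
  rw [h1] at hd ⊢
  split_ifs at hd ⊢ <;> revert hd <;> decide

include hact in
theorem crit_1 (hJ : J G = Subgroup.closure (x '' {i | i < 5})) (B : Set (Fin 416))
    (h0 : (1 : Fin 416) ∈ B) (hsub : B ⊆ orbit (J G) (1 : Fin 416))
    (hcl : ∀ k ∈ J G, k • (1 : Fin 416) = 1 → ∀ b ∈ B, k • b ∈ B)
    (hd : B.ncard ∣ (orbit (J G) (1 : Fin 416)).ncard) :
    B.ncard = 1 ∨ B.ncard = (orbit (J G) (1 : Fin 416)).ncard := by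
  classical
  have horb := orbit_J x hact hJ 1 (by norm_num) 1 rfl (by decide +kernel)
  rw [horb, ncard_label, cardJ_1] at hd ⊢
  rw [horb] at hsub
  have hK : ∀ i, X x (tL2.ws i) ∈ J G ⊓ stabilizer G (1 : Fin 416) := by
    intro i
    have : ∀ i < 5, wk (tL2.ws i) (0 : Fin 416) = (0 : Fin 416) ∧
      wk (tL2.ws i) (1 : Fin 416) = (1 : Fin 416) := by decide +kernel
    by_cases hi : i < 5
    · exact Subgroup.mem_inf.2 ⟨X_mem_stab x hact _ 0 (this i hi).1, X_mem_stab x hact _ 1 (this i hi).2⟩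
    · have : tL2.ws i = [] := by
        match i, hi with
        | n + 5, _ => rfl
      rw [this]
      exact Subgroup.one_mem _
  have h1 := ncard_eq_sum tL2 6 B (fun p hp => L2_lt p (hsub hp))
    (fun p hp => tree_iff x hact tL2 okL2 _ hK B
      (fun k hk b hb => hcl k (Subgroup.mem_inf.1 hk).1 (Subgroup.mem_inf.1 hk).2 b hb) p (by omega))
  simp only [Finset.sum_range_succ, Finset.sum_range_zero, zero_add, cardL2_0, cardL2_1, cardL2_2,
    cardL2_3, cardL2_4, cardL2_5] at h1
  have hr : tL2.rt 0 ∈ nums B := (mem_nums B 1).2 h0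
  rw [if_pos hr] at h1
  rw [h1] at hd ⊢
  split_ifs at hd ⊢ <;> revert hd <;> decide

include hact in
theorem coatom_two (hJ : J G = Subgroup.closure (x '' {i | i < 5})) (y : G) (hy : y ∉ J G) :
    IsCoatom ((J G ⊓ (J G).map (MulAut.conj y).toMonoidHom).subgroupOf (J G)) := by
  set β : Fin 416 := y • (0 : Fin 416) with hβ
  have hβ0 : β ≠ 0 := fun h => hy h
  have e : J G ⊓ (J G).map (MulAut.conj y).toMonoidHom = J G ⊓ stabilizer G β := by
    congr 1
    ext g
    rw [Subgroup.mem_map, mem_stabilizer_iff]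
    constructor
    · rintro ⟨h, hh, rfl⟩
      have hh : h • (0 : Fin 416) = 0 := hh
      change (y * h * y⁻¹) • β = β
      rw [hβ, mul_smul, mul_smul, inv_smul_smul, hh]
    · intro hg
      refine ⟨y⁻¹ * g * y, ?_, ?_⟩
      · change (y⁻¹ * g * y) • (0 : Fin 416) = 0
        rw [mul_smul, mul_smul, ← hβ, hg, hβ, inv_smul_smul]
      · change y * (y⁻¹ * g * y) * y⁻¹ = g
        group
  rw [e]
  -- the orbit of `β`
  have hmain : ∀ (k : ℕ) (hk : k < 3) (r : Fin 416) (hr : tJ.rt k = r) (hrk : tJ.L r = k)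
      (hcrit : ∀ B : Set (Fin 416), r ∈ B → B ⊆ orbit (J G) r →
        (∀ k ∈ J G, k • r = r → ∀ b ∈ B, k • b ∈ B) → B.ncard ∣ (orbit (J G) r).ncard →
        B.ncard = 1 ∨ B.ncard = (orbit (J G) r).ncard)
      (h1 : (orbit (J G) r).ncard ≠ 1) (hβk : tJ.L β = k),
      IsCoatom ((J G ⊓ stabilizer G β).subgroupOf (J G)) := by
    intro k hk r hr hrk hcrit h1 hβk
    have horb := orbit_J x hact hJ k hk r hr hrk
    have hβo : β ∈ orbit (J G) r := by rw [horb]; exact hβk
    refine isCoatom_subgroupOf _ _ inf_le_left ?_ (fun M hM1 hM2 => ?_)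
    · intro hEq
      have h2 := ncard_orbit_mul (J G) β
      rw [hEq, orbit_eq_iff.2 hβo] at h2
      apply h1
      have hpos : 0 < Nat.card (J G) := Nat.card_pos
      exact Nat.eq_of_mul_eq_mul_right hpos (by rw [h2, one_mul])
    · exact eq_or_eq (J G) r hcrit β hβo M hM1 hM2
  have hL := LJ_lt β
  have h3 : tJ.L β = 0 ∨ tJ.L β = 1 ∨ tJ.L β = 2 := by omega
  rcases h3 with h3 | h3 | h3
  · exact absurd (LJ_zero β h3) hβ0
  · refine hmain 1 (by norm_num) 1 rfl (by decide +kernel) (crit_1 x hact hJ) ?_ h3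
    rw [orbit_J x hact hJ 1 (by norm_num) 1 rfl (by decide +kernel), ncard_label, cardJ_1]
    norm_num
  · refine hmain 2 (by norm_num) 52 rfl (by decide +kernel) (crit_52 x hact hJ) ?_ h3
    rw [orbit_J x hact hJ 2 (by norm_num) 52 rfl (by decide +kernel), ncard_label, cardJ_2]
    norm_num

end

/-- the main result in abstract form -/
theorem main {G : Type*} [Group G] (x : Fin 6 → G) (hx : ∀ w ∈ R6, (w.map x).prod = 1)
    (hc : Subgroup.closure (Set.range x) = ⊤) (hcard : 251596800 ≤ Nat.card G) :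
    ∃ H : Subgroup G, IsCoatom H ∧ Cfsg.Spor.IsoJ2 H ∧
      ∀ y : G, y ∉ H → IsCoatom ((H ⊓ H.map (MulAut.conj y).toMonoidHom).subgroupOf H) := by
  obtain ⟨hfin, hle⟩ := G24Upper.card_closure_le (fun i => (x i, P i)) (fun w hw => by
    have key : ∀ w : List (Fin 6), (w.map fun i => (x i, P i)).prod =
        ((w.map x).prod, (w.map P).prod) := by
      intro w
      induction w with
      | nil => rfl
      | cons i w ih => rw [List.map_cons, List.prod_cons, ih]; rfl
    rw [key, hx w hw, P_rel w hw]; rfl)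
  obtain ⟨hG, hcG, φ, hφ⟩ := exists_hom x P hc _ hcard hfin hle
  let _ : MulAction G (Fin 416) := MulAction.compHom (Fin 416) φ
  have hact : ∀ (i : Fin 6) (p : Fin 416), x i • p = P i p := by
    intro i p
    change φ (x i) p = P i p
    rw [hφ]
  have hJ := J_eq x hact hx hc hcG
  exact ⟨J G, coatom_J x hact hcG, isoJ2 x hact hx hc hcG, fun y hy => coatom_two x hact hJ y hy⟩

end Cfsg.Agent.H899.G24Prim
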